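import Groth.Agent.S16579
import Groth.Agent.HensBranch.Completion

/-!
Clopen subsets of the punctured spectrum of a henselian Noetherian local ring and of its completion.
-/

set_option autoImplicit false
set_option linter.style.haveILetI false

universe u

open IsLocalRing CategoryTheory AlgebraicGeometry

namespace Groth.Agent.HensPunctLib

noncomputable section

variable {R C : Type u} [CommRing R] [HenselianLocalRing R] [IsNoetherianRing R] [CommRing C]

theorem exists_clopen (φ : R →+* C) (e : C ≃+* AdicCompletion (maximalIdeal R) R)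
    (he : ∀ r, e (φ r) = algebraMap R _ r)
    (W : Set ↥(PrimeSpectrum.comap φ ⁻¹' {closedPoint R}ᶜ)) (hW : IsClopen W) :
    ∃ V : Set ↥({closedPoint R}ᶜ : Set (PrimeSpectrum R)), IsClopen V ∧
      ({closedPoint R}ᶜ : Set (PrimeSpectrum R)).restrictPreimage (PrimeSpectrum.comap φ) ⁻¹' V = W := by
  let U : (Spec (CommRingCat.of R)).Opens :=
    ⟨({closedPoint R}ᶜ : Set (PrimeSpectrum R)), (isClosed_singleton_closedPoint R).isOpen_compl⟩
  haveI : TopologicalSpace.NoetherianSpace (PrimeSpectrum R) := inferInstance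
  have hUc : IsCompact (U : Set (Spec (CommRingCat.of R))) := TopologicalSpace.NoetherianSpace.isCompact _
  have hUI : ∀ x : Spec (CommRingCat.of R), x ∉ U → maximalIdeal R ≤ x.asIdeal := fun x hx =>
    (congrArg PrimeSpectrum.asIdeal (not_not.1 fun hne => hx (show x ∈ U from hne))).ge
  obtain ⟨-, hsurj⟩ := Groth.Agent.S16579.result R (maximalIdeal R) (IsNoetherian.noetherian _) U hUc hUI
  let π := Spec.map (CommRingCat.ofHom (algebraMap R (AdicCompletion (maximalIdeal R) R)))
  have hh : ∀ x, PrimeSpectrum.comap φ (PrimeSpectrum.comap e.toRingHom x) = π.base x := fun x => by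
    rw [← PrimeSpectrum.comap_comp_apply, show e.toRingHom.comp φ = algebraMap R _ from RingHom.ext he]
    rfl
  let k : ↥(π ⁻¹ᵁ U) → ↥(PrimeSpectrum.comap φ ⁻¹' {closedPoint R}ᶜ) := fun x =>
    ⟨PrimeSpectrum.comap e.toRingHom x.1, by
      show PrimeSpectrum.comap φ (PrimeSpectrum.comap e.toRingHom x.1) ∈ ({closedPoint R}ᶜ : Set (PrimeSpectrum R))
      rw [hh]; exact x.2⟩
  have hk : Continuous k := by
    exact Continuous.subtype_mk ((PrimeSpectrum.continuous_comap e.toRingHom).comp continuous_subtype_val) _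
  have hks : Function.Surjective k := by
    rintro ⟨c, hc⟩
    have h1 : PrimeSpectrum.comap e.toRingHom (PrimeSpectrum.comap e.symm.toRingHom c) = c := by
      rw [← PrimeSpectrum.comap_comp_apply,
        show e.symm.toRingHom.comp e.toRingHom = RingHom.id C from RingHom.ext e.symm_apply_apply]
      exact PrimeSpectrum.ext (Ideal.comap_id _)
    refine ⟨⟨PrimeSpectrum.comap e.symm.toRingHom c, ?_⟩, Subtype.ext h1⟩
    show π.base (PrimeSpectrum.comap e.symm.toRingHom c) ∈ U
    rw [← hh, h1]
    exact hc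
  obtain ⟨⟨V, hV⟩, hVW⟩ := hsurj ⟨k ⁻¹' W, hW.preimage hk⟩
  refine ⟨V, hV, Set.ext fun c => ?_⟩
  obtain ⟨x, rfl⟩ := hks c
  have h1 : ((π ∣_ U).base x ∈ V) ↔ k x ∈ W := Set.ext_iff.1 (congrArg Subtype.val hVW) x
  have h2 : ({closedPoint R}ᶜ : Set (PrimeSpectrum R)).restrictPreimage (PrimeSpectrum.comap φ) (k x) =
      (π ∣_ U).base x := Subtype.ext ((hh x.1).trans (morphismRestrict_base_coe π U x).symm)
  exact (Eq.to_iff (congrArg (· ∈ V) h2)).trans h1

variable (A S : Type u) [CommRing A] [IsLocalRing A] [IsNoetherianRing A] [CommRing S] [IsLocalRing S]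
  [Algebra A S] [IsLocalHom (algebraMap A S)] [Hensel.IsHenselization A S]

theorem exists_toCompletion :
    ∃ ψ : S →+* AdicCompletion (maximalIdeal A) A, ψ.comp (algebraMap A S) = algebraMap A _ := by
  haveI : HenselianLocalRing (AdicCompletion (maximalIdeal A) A) := NormalTensor.henselianLocalRing_completion A
  haveI : Module.FaithfullyFlat A (AdicCompletion (maximalIdeal A) A) :=
    RegLocal.faithfullyFlat_completion A _ (maximalIdeal.isMaximal A).ne_top
  have hloc : IsLocalHom (algebraMap A (AdicCompletion (maximalIdeal A) A)) := by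
    refine ⟨fun a ha => ?_⟩
    by_contra hn
    have h1 : algebraMap A (AdicCompletion (maximalIdeal A) A) a ∈
        (maximalIdeal A).map (algebraMap A (AdicCompletion (maximalIdeal A) A)) :=
      Ideal.mem_map_of_mem _ ((IsLocalRing.mem_maximalIdeal a).mpr hn)
    refine (maximalIdeal.isMaximal A).ne_top ?_
    rw [← Ideal.comap_map_eq_self_of_faithfullyFlat (B := AdicCompletion (maximalIdeal A) A) (maximalIdeal A),
      Ideal.eq_top_of_isUnit_mem _ h1 ha, Ideal.comap_top]
  obtain ⟨ψ, hψ, -⟩ := (‹Hensel.IsHenselization A S›).universal _ _ hloc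
  exact ⟨ψ, hψ⟩

variable (ψ : S →+* AdicCompletion (maximalIdeal A) A)
  (hψ : ψ.comp (algebraMap A S) = algebraMap A (AdicCompletion (maximalIdeal A) A))

include hψ in
theorem exists_equiv [IsNoetherianRing S] : ∃ e : AdicCompletion (maximalIdeal A) A ≃+* AdicCompletion (maximalIdeal S) S,
    ∀ s, e (ψ s) = algebraMap S _ s := by
  obtain ⟨-, hm, -⟩ := RatliffLib.henselization_facts A S
  let J := maximalIdeal S
  have hP := (S1993.result A S).2 ‹_›
  have hbij := RatliffLib.exists_complEquiv (algebraMap A S) (maximalIdeal A) J hm.le fun n => by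
    have h1 := PairHens.quotientMap_pow_bijective hP n
    have h2 : ((maximalIdeal A) ^ n).map (algebraMap A S) = J ^ n := by rw [Ideal.map_pow, hm]
    let e := Ideal.quotEquivOfEq h2
    convert! e.bijective.comp h1 using 1
    funext x
    obtain ⟨a, rfl⟩ := Ideal.Quotient.mk_surjective x
    rfl
  let g := CMCat.complHom (algebraMap A S) (maximalIdeal A) J hm.le
  haveI : HenselianLocalRing (AdicCompletion J S) := NormalTensor.henselianLocalRing_completion S
  have hloc : IsLocalHom ((algebraMap S (AdicCompletion J S)).comp (algebraMap A S)) := by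
    haveI : Module.FaithfullyFlat S (AdicCompletion J S) :=
      RegLocal.faithfullyFlat_completion S _ (maximalIdeal.isMaximal S).ne_top
    haveI : IsLocalHom (algebraMap S (AdicCompletion J S)) := by
      refine ⟨fun s hs => ?_⟩
      by_contra hns
      have h1 : algebraMap S (AdicCompletion J S) s ∈ J.map (algebraMap S (AdicCompletion J S)) :=
        Ideal.mem_map_of_mem _ ((IsLocalRing.mem_maximalIdeal s).mpr hns)
      exact (maximalIdeal.isMaximal S).ne_top ((Ideal.comap_map_eq_self_of_faithfullyFlat (B := AdicCompletion J S) J).symm.trans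
        (by rw [Ideal.eq_top_of_isUnit_mem _ h1 hs, Ideal.comap_top]))
    exact RingHom.isLocalHom_comp _ _
  obtain ⟨g₀, -, hu⟩ := (‹Hensel.IsHenselization A S›).universal (AdicCompletion J S) _ hloc
  refine ⟨RingEquiv.ofBijective g hbij, fun s => RingHom.congr_fun
    ((hu (g.comp ψ) (RingHom.ext fun a => ?_)).trans (hu _ rfl).symm) s⟩
  show g (ψ (algebraMap A S a)) = _
  rw [show ψ (algebraMap A S a) = algebraMap A _ a from RingHom.congr_fun hψ a]
  exact CMCat.complHom_algebraMap _ _ _ hm.le a

include hψ in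
theorem preimage_punctured :
    PrimeSpectrum.comap ψ ⁻¹' {closedPoint S}ᶜ =
      ({closedPoint (AdicCompletion (maximalIdeal A) A)}ᶜ : Set (PrimeSpectrum (AdicCompletion (maximalIdeal A) A))) := by
  obtain ⟨-, hm, hS⟩ := RatliffLib.henselization_facts A S
  letI := ψ.toAlgebra
  haveI : Module.FaithfullyFlat S (AdicCompletion (maximalIdeal A) A) :=
    HensBranch.faithfullyFlat_toCompletion A S ψ hψ
  obtain ⟨c₀, hc₀⟩ := PrimeSpectrum.comap_surjective_of_faithfullyFlat (A := S)
    (B := AdicCompletion (maximalIdeal A) A) (closedPoint S)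
  have key : ∀ c, PrimeSpectrum.comap ψ c = closedPoint S → c = closedPoint (AdicCompletion (maximalIdeal A) A) := by
    intro c hc
    refine PrimeSpectrum.ext (le_antisymm (IsLocalRing.le_maximalIdeal c.2.ne_top) ?_)
    show maximalIdeal (AdicCompletion (maximalIdeal A) A) ≤ c.asIdeal
    rw [AdicCompletion.maximalIdeal_eq_map, Ideal.map_le_iff_le_comap]
    intro a ha
    have h1 : algebraMap A S a ∈ (PrimeSpectrum.comap ψ c).asIdeal := by
      rw [hc]
      exact hm.le (Ideal.mem_map_of_mem _ ha)
    rw [Ideal.mem_comap, ← RingHom.congr_fun hψ a]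
    exact h1
  ext c
  refine ⟨fun h hc => h ?_, fun h hc => h (key c hc)⟩
  rw [Set.mem_singleton_iff] at hc ⊢
  rw [hc, ← key c₀ hc₀]
  exact hc₀

include hψ in
theorem exists_clopen_completion
    (W : Set ↥(PrimeSpectrum.comap ψ ⁻¹' {closedPoint S}ᶜ)) (hW : IsClopen W) :
    ∃ V : Set ↥({closedPoint S}ᶜ : Set (PrimeSpectrum S)), IsClopen V ∧
      ({closedPoint S}ᶜ : Set (PrimeSpectrum S)).restrictPreimage (PrimeSpectrum.comap ψ) ⁻¹' V = W := by
  obtain ⟨hh, -, hS⟩ := RatliffLib.henselization_facts A S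
  haveI := hS
  haveI : HenselianLocalRing S := ‹Hensel.IsHenselization A S›.henselian
  obtain ⟨e, he⟩ := exists_equiv A S ψ hψ
  exact exists_clopen ψ e he W hW

end

end Groth.Agent.HensPunctLib
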